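import Mathlib

/-! A split filtration is determined by the filtration it induces on a tensor power. -/

open scoped TensorProduct

universe u v w

namespace FiltTensorLib

variable {Γ : Type w} [AddCommGroup Γ] [LinearOrder Γ] [IsOrderedAddMonoid Γ]
  {R : Type u} [CommRing R] {M : Type v} [AddCommGroup M] [Module R M] {k : ℕ}

/-- The induced filtration. -/
noncomputable def T (F : Γ → Submodule R M) (k : ℕ) (γ : Γ) : Submodule R (PiTensorProduct R (fun _ : Fin k => M)) :=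
  ⨆ c : {c : Fin k → Γ // ∑ i, c i = γ}, LinearMap.range (PiTensorProduct.map (R := R) (fun i => (F (c.1 i)).subtype))

theorem tprod_mem (F : Γ → Submodule R M) (c : Fin k → Γ) (x : Fin k → M) (hx : ∀ i, x i ∈ F (c i)) :
    PiTensorProduct.tprod R x ∈ T F k (∑ i, c i) := by
  refine Submodule.mem_iSup_of_mem ⟨c, rfl⟩ ⟨PiTensorProduct.tprod R fun i => ⟨x i, hx i⟩, ?_⟩
  rw [PiTensorProduct.map_tprod]
  rfl

section Graded

variable (G : Γ → Submodule R M) (hG : DirectSum.IsInternal G)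

/-- The projection to a graded piece. -/
noncomputable def proj (η : Γ) : M →ₗ[R] M :=
  letI := hG.chooseDecomposition
  (G η).subtype.comp ((DirectSum.component R Γ (fun i => G i) η).comp (DirectSum.decomposeLinearEquiv G).toLinearMap)

theorem proj_apply (η : Γ) (x : M) :
    letI := hG.chooseDecomposition
    proj G hG η x = ((DirectSum.decompose G x η : G η) : M) := by
  simp only [proj, LinearMap.comp_apply, Submodule.subtype_apply, LinearEquiv.coe_coe]
  rfl

theorem proj_mem (η : Γ) (x : M) : proj G hG η x ∈ G η := Subtype.coe_prop _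

theorem proj_of_mem {η θ : Γ} {x : M} (hx : x ∈ G θ) (h : θ ≠ η) : proj G hG η x = 0 := by
  letI := hG.chooseDecomposition
  rw [proj_apply]
  exact DirectSum.decompose_of_mem_ne G hx h

theorem proj_of_mem_same {η : Γ} {x : M} (hx : x ∈ G η) : proj G hG η x = x := by
  letI := hG.chooseDecomposition
  rw [proj_apply]
  exact DirectSum.decompose_of_mem_same G hx

theorem exists_sum_proj (x : M) : ∃ s : Finset Γ, ∑ η ∈ s, proj G hG η x = x := by
  classical
  letI := hG.chooseDecomposition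
  refine ⟨(DirectSum.decompose G x).support, ?_⟩
  simp only [proj_apply]
  exact DirectSum.sum_support_decompose G x

theorem proj_of_mem_fil {γ η : Γ} (h : η < γ) {x : M} (hx : x ∈ ⨆ θ ∈ Set.Ici γ, G θ) :
    proj G hG η x = 0 := by
  refine (iSup₂_le (fun θ hθ => ?_) : (⨆ θ ∈ Set.Ici γ, G θ) ≤ LinearMap.ker (proj G hG η)) hx
  exact fun y hy => proj_of_mem G hG hy (ne_of_gt (lt_of_lt_of_le h hθ))

theorem mem_fil_of_proj {γ : Γ} {x : M} (h : ∀ η < γ, proj G hG η x = 0) :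
    x ∈ ⨆ θ ∈ Set.Ici γ, G θ := by
  obtain ⟨s, hs⟩ := exists_sum_proj G hG x
  rw [← hs]
  refine Submodule.sum_mem _ fun η _ => ?_
  rcases lt_or_ge η γ with h' | h'
  · rw [h η h']; exact zero_mem _
  · exact Submodule.mem_iSup_of_mem η (Submodule.mem_iSup_of_mem h' (proj_mem G hG η x))

/-- Functionals on graded components kill higher filtration steps. -/
theorem prod_eq_zero {F : Γ → Submodule R M} (hF : ∀ γ, F γ = ⨆ η ∈ Set.Ici γ, G η)
    {σ : Γ} {x : Fin k → M} (hx : PiTensorProduct.tprod R x ∈ T F k σ)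
    (c' : Fin k → Γ) (hc' : ∑ i, c' i < σ) (φ : Fin k → Module.Dual R M) :
    ∏ i, φ i (proj G hG (c' i) (x i)) = 0 := by
  let Φ : PiTensorProduct R (fun _ : Fin k => M) →ₗ[R] R :=
    PiTensorProduct.lift ((MultilinearMap.mkPiAlgebra R (Fin k) R).compLinearMap
      fun i => (φ i).comp (proj G hG (c' i)))
  have hΦ : ∀ y : Fin k → M, Φ (PiTensorProduct.tprod R y) = ∏ i, φ i (proj G hG (c' i) (y i)) :=
    fun y => by simp [Φ]
  rw [← hΦ]
  refine (iSup_le (fun c => ?_) : T F k σ ≤ LinearMap.ker Φ) hx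
  rintro _ ⟨z, rfl⟩
  rw [LinearMap.mem_ker]
  induction z using PiTensorProduct.induction_on with
  | smul_tprod r y =>
    rw [map_smul, map_smul, PiTensorProduct.map_tprod, hΦ]
    obtain ⟨i, hi⟩ : ∃ i, c' i < c.1 i := by
      by_contra h
      push Not at h
      exact absurd (c.2 ▸ Finset.sum_le_sum fun i _ => h i) (not_le.mpr hc')
    rw [Finset.prod_eq_zero (Finset.mem_univ i), smul_zero]
    have h2 : (y i : M) ∈ ⨆ η ∈ Set.Ici (c.1 i), G η := (le_of_eq (hF (c.1 i))) (y i).2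
    rw [Submodule.subtype_apply, proj_of_mem_fil G hG hi h2, map_zero]
  | add a b ha hb => rw [map_add, map_add, ha, hb, add_zero]

end Graded

variable [Module.Finite R M] [Module.Projective R M]

theorem mem_smul_of_dual (I : Ideal R) (x : M) (h : ∀ φ : Module.Dual R M, φ x ∈ I) : x ∈ I • (⊤ : Submodule R M) := by
  obtain ⟨n, f, g, -, -, hfg⟩ := Module.Finite.exists_comp_eq_id_of_projective R M
  rw [show x = f (g x) from (LinearMap.congr_fun hfg x).symm, ← (Pi.basisFun R (Fin n)).sum_repr (g x), map_sum]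
  refine Submodule.sum_mem _ fun i _ => ?_
  rw [map_smul]
  exact Submodule.smul_mem_smul (h ((LinearMap.proj i).comp g)) trivial

omit [Module.Finite R M] [Module.Projective R M] in
/-- Components of lower degree vanish at every point. -/
theorem mem_prime (F₁ F₂ : Γ → Submodule R M) (G₂ : Γ → Submodule R M)
    (h₂ : DirectSum.IsInternal G₂) (hF₂ : ∀ γ, F₂ γ = ⨆ η ∈ Set.Ici γ, G₂ η)
    (hk : 1 ≤ k) (h : ∀ γ, T F₁ k γ = T F₂ k γ) {γ η : Γ} (hη : η < γ) {v : M} (hv : v ∈ F₁ γ)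
    (P : Ideal R) [P.IsPrime] (φ : Module.Dual R M) : φ (proj G₂ h₂ η v) ∈ P := by
  haveI : Nonempty (Fin k) := ⟨⟨0, hk⟩⟩
  have hx := tprod_mem F₁ (fun _ : Fin k => γ) (fun _ => v) (fun _ => hv)
  rw [h] at hx
  have := prod_eq_zero G₂ h₂ hF₂ hx (fun _ => η)
    (Finset.sum_lt_sum_of_nonempty Finset.univ_nonempty fun _ _ => hη) (fun _ => φ)
  refine Ideal.IsPrime.mem_of_pow_mem inferInstance k ?_
  rw [Finset.prod_const, Finset.card_univ, Fintype.card_fin] at this
  rw [this]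
  exact zero_mem _

theorem main (F₁ F₂ : Γ → Submodule R M) (G₁ G₂ : Γ → Submodule R M)
    (h₁ : DirectSum.IsInternal G₁) (h₂ : DirectSum.IsInternal G₂)
    (hF₁ : ∀ γ, F₁ γ = ⨆ η ∈ Set.Ici γ, G₁ η) (hF₂ : ∀ γ, F₂ γ = ⨆ η ∈ Set.Ici γ, G₂ η)
    (hk : 1 ≤ k) (h : ∀ γ, T F₁ k γ = T F₂ k γ) (γ : Γ) : F₁ γ ≤ F₂ γ := by
  classical
  intro v hv
  rw [hF₂]
  refine mem_fil_of_proj G₂ h₂ fun η hη => ?_
  refine (Submodule.mem_bot R).mp ?_
  rw [show (⊥ : Submodule R M) = (⊥ : Ideal R) • (⊤ : Submodule R M) by simp]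
  refine mem_smul_of_dual ⊥ _ fun φ => ?_
  rw [Submodule.mem_bot]
  set r := φ (proj G₂ h₂ η v) with hr_def
  by_contra hr
  have hne : LinearMap.ker (LinearMap.toSpanSingleton R R r) ≠ ⊤ := fun htop => hr (by
    have h1 : (1 : R) ∈ LinearMap.ker (LinearMap.toSpanSingleton R R r) := htop ▸ Submodule.mem_top
    simpa using h1)
  obtain ⟨m, hm, hle⟩ := Ideal.exists_le_maximal _ hne
  have hann : ∀ s : R, s * r = 0 → s ∈ m := fun s hs => hle (by simpa using hs)
  haveI := hm.isPrime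
  by_cases hM : ∀ x : M, x ∈ m • (⊤ : Submodule R M)
  · obtain ⟨s, hs, hs0⟩ := Submodule.exists_sub_one_mem_and_smul_eq_zero_of_fg_of_le_smul m
      (⊤ : Submodule R M) Module.Finite.fg_top (fun x _ => hM x)
    have : s ∈ m := hann s (by
      rw [hr_def, ← smul_eq_mul, ← map_smul, hs0 _ trivial, map_zero])
    exact hm.ne_top ((Ideal.eq_top_iff_one m).mpr (by simpa using sub_mem this hs))
  push Not at hM
  obtain ⟨x, hx⟩ := hM
  obtain ⟨α, hu⟩ : ∃ α, proj G₂ h₂ α x ∉ m • (⊤ : Submodule R M) := by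
    by_contra hcon
    push Not at hcon
    obtain ⟨s, hs⟩ := exists_sum_proj G₂ h₂ x
    exact hx (hs ▸ Submodule.sum_mem _ fun α _ => hcon α)
  set u := proj G₂ h₂ α x
  have huG : u ∈ G₂ α := proj_mem G₂ h₂ α x
  have huF : u ∈ F₂ α := by
    rw [hF₂]; exact Submodule.mem_iSup_of_mem α (Submodule.mem_iSup_of_mem Set.self_mem_Ici huG)
  obtain ⟨s, hs⟩ := exists_sum_proj G₁ h₁ u
  let w := ∑ θ ∈ s.filter (fun θ => α ≤ θ), proj G₁ h₁ θ u
  have hw : w ∈ F₁ α := by
    rw [hF₁]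
    exact Submodule.sum_mem _ fun θ hθ =>
      Submodule.mem_iSup_of_mem θ (Submodule.mem_iSup_of_mem (Finset.mem_filter.mp hθ).2 (proj_mem G₁ h₁ θ u))
  have hrest : u - w ∈ m • (⊤ : Submodule R M) := by
    rw [← hs, ← Finset.sum_filter_add_sum_filter_not s (fun θ => α ≤ θ), add_sub_cancel_left]
    refine Submodule.sum_mem _ fun θ hθ => mem_smul_of_dual m _ fun ψ => ?_
    exact mem_prime F₂ F₁ G₁ h₁ hF₁ hk (fun σ => (h σ).symm) (lt_of_not_ge (Finset.mem_filter.mp hθ).2) huF m ψ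
  obtain ⟨φ', hφ'⟩ : ∃ φ' : Module.Dual R M, φ' (proj G₂ h₂ α w) ∉ m := by
    by_contra hcon
    push Not at hcon
    apply hu
    rw [← proj_of_mem_same G₂ h₂ huG, ← sub_add_cancel u w, map_add]
    exact add_mem ((Submodule.smul_le.mpr fun a ha y _ => (show proj G₂ h₂ α (a • y) ∈ m • (⊤ : Submodule R M) by
      rw [map_smul]; exact Submodule.smul_mem_smul ha trivial) :
      m • (⊤ : Submodule R M) ≤ (m • (⊤ : Submodule R M)).comap (proj G₂ h₂ α)) hrest)
      (mem_smul_of_dual m _ hcon)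
  obtain ⟨j, rfl⟩ : ∃ j, k = j + 1 := ⟨k - 1, by omega⟩
  let c : Fin (j + 1) → Γ := Fin.cons γ fun _ => α
  let xs : Fin (j + 1) → M := Fin.cons v fun _ => w
  have hmem : PiTensorProduct.tprod R xs ∈ T F₁ (j + 1) (∑ i, c i) :=
    tprod_mem F₁ c xs fun i => by refine Fin.cases ?_ ?_ i <;> simp [c, xs, hv, hw]
  rw [h] at hmem
  have := prod_eq_zero G₂ h₂ hF₂ hmem (Fin.cons η fun _ => α) (by
    simp only [c, Fin.sum_univ_succ, Fin.cons_zero, Fin.cons_succ]
    exact add_lt_add_left hη _) (Fin.cons φ fun _ => φ')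
  simp only [xs, Fin.prod_univ_succ, Fin.cons_zero, Fin.cons_succ, Finset.prod_const, Finset.card_univ,
    Fintype.card_fin] at this
  exact hφ' (hm.isPrime.mem_of_pow_mem j (hann _ (by rw [mul_comm]; exact this)))

end FiltTensorLib
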